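import Groth.Agent.ProEtHomeo.LiftObj
import Groth.Agent.ProEtFull.ClosedImm

/-!
# Base change of pro-étale sites along a universal homeomorphism is cover dense and locally full
-/

set_option autoImplicit false
set_option linter.style.haveILetI false
set_option backward.isDefEq.respectTransparency false
set_option backward.isDefEq.respectTransparency.types false
set_option maxHeartbeats 1000000
universe u

noncomputable section

namespace Groth.Agent.ProEtHomeo

open CategoryTheory Limits AlgebraicGeometry Opposite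
open Groth.Agent.ProEtFull (exists_wc_cover exists_affine_nhd)

variable {Z X : Scheme.{u}} (i : Z ⟶ X) [IsIntegralHom i] [UniversallyInjective i] [Surjective i]

theorem bcP_map_fst {L U : X.ProEt} (g : L ⟶ U) :
    ((ProEtS.bcP i).map g).left ≫ pullback.fst U.hom i = pullback.fst L.hom i ≫ g.left := by
  dsimp [ProEtS.bcP]
  exact pullback.lift_fst _ _ _

theorem bcP_map_snd {L U : X.ProEt} (g : L ⟶ U) :
    ((ProEtS.bcP i).map g).left ≫ pullback.snd U.hom i = pullback.snd L.hom i :=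
  MorphismProperty.Over.w ((ProEtS.bcP i).map g)

/-- A lifted object restricts to the given one. -/
def liftIso {B : Type u} [CommRing B] {w : Spec (CommRingCat.of B) ⟶ Z} [WeaklyEtale w] {V : X.ProEt}
    {q : Spec (CommRingCat.of B) ⟶ V.left} (sq : IsPullback q w V.hom i) :
    (Scheme.ProEt.mk w : Z.ProEt) ≅ (ProEtS.bcP i).obj V :=
  MorphismProperty.Over.isoMk sq.isoPullback sq.isoPullback_hom_snd

theorem isCoverDense_bcP : (ProEtS.bcP i).IsCoverDense (Scheme.ProEt.topology Z) := by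
  refine ⟨fun W => ?_⟩
  have hx : ∀ x : W.left, ∃ (O : W.left.Opens) (Xa : X.Opens), IsAffineOpen O ∧ IsAffineOpen Xa ∧ x ∈ O ∧
      O ≤ W.hom ⁻¹ᵁ (i ⁻¹ᵁ Xa) := fun x => by
    obtain ⟨Xa, hXa, hyX, -⟩ := exists_affine_nhd (U := X) (x := i (W.hom x)) (W := ⊤) trivial
    obtain ⟨O, hO, hxO, hle⟩ := exists_affine_nhd (W := W.hom ⁻¹ᵁ (i ⁻¹ᵁ Xa)) (x := x) hyX
    exact ⟨O, Xa, hO, hXa, hxO, hle⟩
  choose O Xa hO hXa hxO hle using hx
  obtain ⟨B, _, f, hf, hB, hmem⟩ := exists_wc_cover W O hO hxO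
  refine GrothendieckTopology.superset_covering _ ?_ hmem
  rw [Sieve.ofArrows, Sieve.generate_le_iff]
  rintro T g ⟨x⟩
  haveI := hf x
  obtain ⟨V, q, -, -, sq, -⟩ := exists_lift_obj i (Xa x) (hXa x) (B x) (hB x) (f x ≫ (O x).ι ≫ W.hom)
    (fun t => hle x (f x t).2)
  exact ⟨⟨V, (liftIso i sq).hom, (liftIso i sq).inv ≫ _, Iso.hom_inv_id_assoc _ _⟩⟩

theorem isLocallyFull_bcP : (ProEtS.bcP i).IsLocallyFull (Scheme.ProEt.topology Z) := by
  refine ⟨fun {U V} φ => ?_⟩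
  let P := (ProEtS.bcP i).obj U
  let a : P.left ⟶ U.left := pullback.fst U.hom i
  let b : P.left ⟶ V.left := φ.left ≫ pullback.fst V.hom i
  have ha : a ≫ U.hom = P.hom ≫ i := pullback.condition
  have hb : b ≫ V.hom = P.hom ≫ i := by
    show (φ.left ≫ pullback.fst V.hom i) ≫ V.hom = _
    rw [Category.assoc, pullback.condition, ← Category.assoc]
    exact congrArg (· ≫ i) (MorphismProperty.Over.w φ)
  have hx : ∀ x : P.left, ∃ (O : P.left.Opens) (Xa : X.Opens) (Oa : U.left.Opens) (Ob : V.left.Opens),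
      IsAffineOpen O ∧ IsAffineOpen Xa ∧ IsAffineOpen Oa ∧ IsAffineOpen Ob ∧ x ∈ O ∧
      O ≤ a ⁻¹ᵁ Oa ∧ O ≤ b ⁻¹ᵁ Ob ∧ Oa ≤ U.hom ⁻¹ᵁ Xa ∧ Ob ≤ V.hom ⁻¹ᵁ Xa := fun x => by
    obtain ⟨Xa, hXa, hyX, -⟩ := exists_affine_nhd (U := X) (x := i (P.hom x)) (W := ⊤) trivial
    have h1 : U.hom (a x) = i (P.hom x) :=
      (Scheme.Hom.comp_apply a U.hom x).symm.trans
        ((congrArg (fun m => m x) ha).trans (Scheme.Hom.comp_apply P.hom i x))
    have h2 : V.hom (b x) = i (P.hom x) :=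
      (Scheme.Hom.comp_apply b V.hom x).symm.trans
        ((congrArg (fun m => m x) hb).trans (Scheme.Hom.comp_apply P.hom i x))
    obtain ⟨Oa, hOa, hxa, hla⟩ := exists_affine_nhd (W := U.hom ⁻¹ᵁ Xa) (x := a x) (show U.hom (a x) ∈ Xa from h1 ▸ hyX)
    obtain ⟨Ob, hOb, hxb, hlb⟩ := exists_affine_nhd (W := V.hom ⁻¹ᵁ Xa) (x := b x) (show V.hom (b x) ∈ Xa from h2 ▸ hyX)
    obtain ⟨O, hO, hxO, hle⟩ := exists_affine_nhd (W := a ⁻¹ᵁ Oa ⊓ b ⁻¹ᵁ Ob) (x := x) ⟨hxa, hxb⟩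
    exact ⟨O, Xa, Oa, Ob, hO, hXa, hOa, hOb, hxO, hle.trans inf_le_left, hle.trans inf_le_right, hla, hlb⟩
  choose O Xa Oa Ob hO hXa hOa hOb hxO hla hlb hXla hXlb using hx
  obtain ⟨B, _, f, hf, hB, hmem⟩ := exists_wc_cover P O hO hxO
  refine GrothendieckTopology.superset_covering _ ?_ hmem
  rw [Sieve.ofArrows, Sieve.generate_le_iff]
  rintro T g ⟨x⟩
  haveI := hf x
  have hw : ∀ t, (f x ≫ (O x).ι ≫ P.hom) t ∈ i ⁻¹ᵁ Xa x := fun t => by
    have h1 : U.hom (a ((O x).ι (f x t))) = i (P.hom ((O x).ι (f x t))) :=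
      (Scheme.Hom.comp_apply a U.hom _).symm.trans
        ((congrArg (fun m => m ((O x).ι (f x t))) ha).trans (Scheme.Hom.comp_apply P.hom i _))
    show i (P.hom ((O x).ι (f x t))) ∈ Xa x
    exact h1 ▸ hXla x (hla x (f x t).2)
  obtain ⟨L, q, -, -, sq, hlift⟩ := exists_lift_obj i (Xa x) (hXa x) (B x) (hB x) (f x ≫ (O x).ι ≫ P.hom) hw
  obtain ⟨gU, hgU⟩ := hlift U (Oa x) (hOa x) (hXla x) (f x ≫ a.resLE (Oa x) (O x) (hla x)) (by simp [ha])
  obtain ⟨gV, hgV⟩ := hlift V (Ob x) (hOb x) (hXlb x) (f x ≫ b.resLE (Ob x) (O x) (hlb x)) (by simp [hb])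
  rw [Category.assoc, Scheme.Hom.resLE_comp_ι] at hgU hgV
  let e := liftIso i sq
  have hU : e.hom ≫ (ProEtS.bcP i).map gU =
      (MorphismProperty.Over.homMk (f x ≫ (O x).ι) (Category.assoc _ _ _) :
        Scheme.ProEt.mk (f x ≫ (O x).ι ≫ P.hom) ⟶ P) := by
    apply MorphismProperty.Over.Hom.ext
    show sq.isoPullback.hom ≫ ((ProEtS.bcP i).map gU).left = f x ≫ (O x).ι
    refine pullback.hom_ext ?_ ?_
    · refine (Category.assoc _ _ _).trans ((congrArg (sq.isoPullback.hom ≫ ·) (bcP_map_fst i gU)).trans ?_)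
      exact ((Category.assoc _ _ _).symm.trans (congrArg (· ≫ gU.left) sq.isoPullback_hom_fst)).trans
        (hgU.trans (Category.assoc _ _ _).symm)
    · refine (Category.assoc _ _ _).trans ((congrArg (sq.isoPullback.hom ≫ ·) (bcP_map_snd i gU)).trans ?_)
      exact sq.isoPullback_hom_snd.trans (Category.assoc _ _ _).symm
  have hV : (ProEtS.bcP i).map gV = (ProEtS.bcP i).map gU ≫ φ := by
    refine (cancel_epi e.hom).1 (Eq.trans ?_ ((congrArg (· ≫ φ) hU).symm.trans (Category.assoc _ _ _)))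
    apply MorphismProperty.Over.Hom.ext
    show sq.isoPullback.hom ≫ ((ProEtS.bcP i).map gV).left = (f x ≫ (O x).ι) ≫ φ.left
    refine pullback.hom_ext ?_ ?_
    · refine (Category.assoc _ _ _).trans ((congrArg (sq.isoPullback.hom ≫ ·) (bcP_map_fst i gV)).trans ?_)
      refine ((Category.assoc _ _ _).symm.trans (congrArg (· ≫ gV.left) sq.isoPullback_hom_fst)).trans (hgV.trans ?_)
      exact (Category.assoc _ _ _).symm.trans (Category.assoc _ _ _).symm
    · refine (Category.assoc _ _ _).trans ((congrArg (sq.isoPullback.hom ≫ ·) (bcP_map_snd i gV)).trans ?_)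
      refine sq.isoPullback_hom_snd.trans ?_
      refine Eq.trans ?_ (Category.assoc _ _ _).symm
      refine (Category.assoc _ _ _).symm.trans (congrArg ((f x ≫ (O x).ι) ≫ ·) ?_)
      exact (MorphismProperty.Over.w φ).symm
  exact ⟨L, gU, e.hom, ⟨gV, hV⟩, hU.symm⟩

end Groth.Agent.ProEtHomeo
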