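import Groth.Agent.WLocalLib.ClosedLift
import Groth.Agent.ProEtLib2.IndEtaleLift

/-!
# Lifting w-contractible rings along universal homeomorphisms

`A → A'` is integral, stays injective on spectra after base change, and every étale `A'`-algebra is
generated by the image of an étale `A`-algebra.
-/

set_option autoImplicit false
set_option linter.style.haveILetI false
set_option maxHeartbeats 1000000

open CategoryTheory CategoryTheory.Limits
open scoped TensorProduct

universe u

namespace Groth.Agent.ProEtHomeo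

open Groth.Agent.WLocalLib Groth.Agent.ProEtLib2

variable {A : Type u} [CommRing A]

/-- A weakly étale map with the same maximal points, onto a ring with strictly henselian local rings at
maximal ideals and unique specialisations to them, is bijective. -/
theorem bijective_of_maximal {C E : Type u} [CommRing C] [CommRing E] [Algebra C E] [Algebra.WeaklyEtale C E]
    (huniq : ∀ (p : Ideal C), p.IsPrime → ∀ M M' : Ideal C, M.IsMaximal → M'.IsMaximal → p ≤ M → p ≤ M' → M = M')
    (hsh : ∀ (M : Ideal C) [M.IsMaximal], EtCoh.IsStrictlyHenselianLocalRing (Localization.AtPrime M))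
    (hcmax : ∀ N : Ideal E, N.IsMaximal → (N.comap (algebraMap C E)).IsMaximal)
    (hinj : ∀ N N' : Ideal E, N.IsMaximal → N'.IsMaximal →
      N.comap (algebraMap C E) = N'.comap (algebraMap C E) → N = N')
    (hex : ∀ m : Ideal C, m.IsMaximal → ∃ N : Ideal E, N.IsMaximal ∧ N.comap (algebraMap C E) = m) :
    Function.Bijective (algebraMap C E) := by
  have hid : ∀ (N : Ideal E) (_ : N.IsMaximal), IdAt (algebraMap C E) N := fun N hN => by
    haveI := hcmax N hN
    exact idAt_of_strictlyHenselian ⟨N, hN.isPrime⟩ (hsh _)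
  refine ⟨(injective_iff_map_eq_zero _).2 fun c hc => ?_, fun e => ?_⟩
  · by_contra hne
    obtain ⟨m, hm, hle⟩ := Ideal.exists_le_maximal (Submodule.colon (⊥ : Ideal C) {c}) (fun htop => hne (by
      have := Submodule.mem_colon_singleton.1 (show (1 : C) ∈ Submodule.colon (⊥ : Ideal C) {c} from htop ▸ trivial)
      simpa using this))
    obtain ⟨N, hN, rfl⟩ := hex m hm
    obtain ⟨v, hv, hv0⟩ := (hid N hN).1 c 1 ((Ideal.ne_top_iff_one _).1 hN.ne_top) (by rw [hc, mul_zero])
    exact hv (hle (Submodule.mem_colon_singleton.2 (by simpa using hv0)))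
  · let J : Ideal C := Submodule.colon (LinearMap.range (Algebra.linearMap C E)) {e}
    suffices hJ : J = ⊤ by
      obtain ⟨c, hc⟩ := Submodule.mem_colon_singleton.1 (show (1 : C) ∈ J from hJ ▸ trivial)
      exact ⟨c, hc.trans (one_smul C e)⟩
    by_contra hJ
    obtain ⟨m, hm, hle⟩ := Ideal.exists_le_maximal J hJ
    obtain ⟨N, hN, hNm⟩ := hex m hm
    obtain ⟨a, s, hs, w, hw, hw0⟩ := (hid N hN).2 e
    let x := algebraMap C E s * e - algebraMap C E a
    let K : Ideal E := Submodule.colon (⊥ : Ideal E) {x}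
    obtain ⟨v, hv, hvx⟩ : ∃ v, v ∉ m ∧ algebraMap C E v * x = 0 := by
      by_contra hcon
      push Not at hcon
      obtain ⟨q, hq, hKq, hqd⟩ := Ideal.exists_le_prime_disjoint K
        ((m.primeCompl).map (algebraMap C E)) (Set.disjoint_left.2 fun y hy hy' => by
          obtain ⟨v, hv, rfl⟩ := hy'
          exact hcon v hv (by simpa using Submodule.mem_colon_singleton.1 hy))
      obtain ⟨N', hN', hqN'⟩ := Ideal.exists_le_maximal q hq.ne_top
      have h1 : q.comap (algebraMap C E) ≤ m := fun c hc => by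
        by_contra h
        exact Set.disjoint_left.1 hqd hc ⟨c, h, rfl⟩
      haveI := hq
      have h2 := huniq _ inferInstance m _ hm (hcmax N' hN') h1 (Ideal.comap_mono hqN')
      have h3 := hinj N N' hN hN' (hNm.trans h2)
      exact hw (h3 ▸ hqN' (hKq (Submodule.mem_colon_singleton.2 (by simpa using hw0))))
    refine hm.ne_top ((Ideal.eq_top_iff_one m).2 ?_)
    have hvs : v * s ∈ J := Submodule.mem_colon_singleton.2 ⟨v * a, by
      rw [Algebra.linearMap_apply, Algebra.smul_def, map_mul, map_mul]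
      linear_combination -hvx⟩
    exact ((hm.isPrime.mem_or_mem (hle hvs)).elim (fun h => absurd h hv)
      fun h => absurd (show algebraMap C E s ∈ N from hNm.ge h) hs)

section Local

variable {D B : Type u} [CommRing D] [CommRing B]

/-- The kernel of a map reflecting units lies in every maximal ideal. -/
theorem ker_le_maximal_of_isUnit (f : D →+* B) (hu : ∀ x, IsUnit (f x) → IsUnit x) (M : Ideal D)
    [hM : M.IsMaximal] : RingHom.ker f ≤ M := by
  intro k hk
  by_contra hkM
  obtain ⟨y, m, hm, hym⟩ := hM.exists_inv hkM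
  have h1 : f m = 1 := by
    have := congrArg f hym
    rwa [map_add, map_mul, show f k = 0 from hk, mul_zero, zero_add, map_one] at this
  exact hM.ne_top (Ideal.eq_top_of_isUnit_mem _ hm (hu m (h1 ▸ isUnit_one)))

theorem exists_prime_over (f : D →+* B) (hf : f.IsIntegral) (p : Ideal D) [p.IsPrime]
    (hp : RingHom.ker f ≤ p) : ∃ Q : Ideal B, Q.IsPrime ∧ Q.comap f = p := by
  letI := f.toAlgebra
  haveI : Algebra.IsIntegral D B := ⟨hf⟩
  obtain ⟨Q, -, hQ, hQp⟩ := Ideal.exists_ideal_over_prime_of_isIntegral (S := B) p ⊥ hp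
  exact ⟨Q, hQ, hQp⟩

theorem isMaximal_comap (f : D →+* B) (hf : f.IsIntegral) (n : Ideal B) [n.IsMaximal] :
    (n.comap f).IsMaximal := by
  letI := f.toAlgebra
  haveI : Algebra.IsIntegral D B := ⟨hf⟩
  exact Ideal.isMaximal_comap_of_isIntegral_of_isMaximal n

theorem exists_maximal_over (f : D →+* B) (hf : f.IsIntegral) (p : Ideal D) [p.IsMaximal]
    (hp : RingHom.ker f ≤ p) : ∃ Q : Ideal B, Q.IsMaximal ∧ Q.comap f = p := by
  obtain ⟨Q, hQ, hQp⟩ := exists_prime_over f hf p hp
  letI := f.toAlgebra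
  haveI : Algebra.IsIntegral D B := ⟨hf⟩
  haveI := hQ
  exact ⟨Q, Ideal.isMaximal_of_isIntegral_of_isMaximal_comap Q (show (Q.comap f).IsMaximal by rw [hQp]; infer_instance), hQp⟩

/-- A map of weakly étale algebras localised at the preimage of the units. -/
theorem exists_localization_units [Algebra A D] [Algebra A B] [Algebra.WeaklyEtale A D] (φ : D →ₐ[A] B) :
    ∃ (C : Type u) (_ : CommRing C) (_ : Algebra A C) (_ : Algebra D C) (_ : IsScalarTower A D C) (ψ : C →ₐ[A] B),
      Algebra.WeaklyEtale A C ∧ Algebra.WeaklyEtale D C ∧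
      IsLocalization ((IsUnit.submonoid B).comap φ) C ∧
      (∀ d, ψ (algebraMap D C d) = φ d) ∧ ∀ x, IsUnit (ψ x) → IsUnit x := by
  let S : Submonoid D := (IsUnit.submonoid B).comap φ
  let C := Localization S
  have hu : ∀ s : S, IsUnit (φ s.1) := fun s => s.2
  let ψ : C →ₐ[A] B := IsLocalization.liftAlgHom (M := S) hu
  have hψ : ∀ d, ψ (algebraMap D C d) = φ d := fun d => by simp [ψ, C]
  haveI : Algebra.WeaklyEtale D C := weaklyEtale_of_isLocalization S
  refine ⟨C, inferInstance, inferInstance, inferInstance, inferInstance, ψ, Algebra.WeaklyEtale.trans A D C,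
    inferInstance, inferInstance, hψ, fun x hx => ?_⟩
  obtain ⟨⟨a, s⟩, hxs⟩ := IsLocalization.surj S x
  have hxs' : x * algebraMap D C s.1 = algebraMap D C a := hxs
  have he := congrArg ψ hxs'
  rw [map_mul, hψ, hψ] at he
  have hau : IsUnit (algebraMap D C a) :=
    IsLocalization.map_units C (⟨a, show IsUnit (φ a) from he ▸ hx.mul (hu s)⟩ : S)
  rw [← hxs'] at hau
  exact isUnit_of_mul_isUnit_left hau

end Local

variable (A' : Type u) [CommRing A'] [Algebra A A'] {B : Type u} [CommRing B] [Algebra A B] [Algebra A' B]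
  [IsScalarTower A A' B]

/-- A map onto `B` up to `A'`-combinations. -/
noncomputable abbrev ext' {D : Type u} [CommRing D] [Algebra A D] (φ : D →ₐ[A] B) : D ⊗[A] A' →ₐ[A] B :=
  Algebra.TensorProduct.lift φ (IsScalarTower.toAlgHom A A' B) fun _ _ => Commute.all _ _

theorem ext'_tmul {D : Type u} [CommRing D] [Algebra A D] (φ : D →ₐ[A] B) (d : D) (a : A') :
    ext' A' φ (d ⊗ₜ a) = φ d * algebraMap A' B a := Algebra.TensorProduct.lift_tmul _ _ _ _ _

theorem ext'_surjective_of_comp {D D' : Type u} [CommRing D] [Algebra A D] [CommRing D'] [Algebra A D']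
    (φ : D →ₐ[A] B) (φ' : D' →ₐ[A] B) (f : D → D') (h : ∀ d, φ' (f d) = φ d)
    (hφ : Function.Surjective (ext' A' φ)) : Function.Surjective (ext' A' φ') := fun b => by
  obtain ⟨x, rfl⟩ := hφ b
  induction x using TensorProduct.induction_on with
  | zero => exact ⟨0, by rw [map_zero, map_zero]⟩
  | tmul d a => exact ⟨f d ⊗ₜ a, by rw [ext'_tmul, ext'_tmul, h]⟩
  | add x y hx hy =>
    obtain ⟨p, hp⟩ := hx
    obtain ⟨q, hq⟩ := hy
    exact ⟨p + q, by rw [map_add, hp, hq, map_add]⟩

theorem isIntegral_of_ext'_surjective [Algebra.IsIntegral A A'] {D : Type u} [CommRing D] [Algebra A D]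
    (φ : D →ₐ[A] B) (hφ : Function.Surjective (ext' A' φ)) : φ.toRingHom.IsIntegral := by
  intro b
  obtain ⟨x, rfl⟩ := hφ b
  have hx : IsIntegral D x := Algebra.IsIntegral.isIntegral x
  obtain ⟨p, hp, hp0⟩ := hx
  refine ⟨p, hp, ?_⟩
  have hc : (ext' A' φ).toRingHom.comp (algebraMap D (D ⊗[A] A')) = φ.toRingHom := RingHom.ext fun d => by
    show ext' A' φ (d ⊗ₜ 1) = φ d
    rw [ext'_tmul, map_one, mul_one]
  rw [← hc]
  exact (Polynomial.hom_eval₂ p (algebraMap D (D ⊗[A] A')) (ext' A' φ).toRingHom x).symm.trans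
    ((congrArg (ext' A' φ).toRingHom hp0).trans (map_zero _))

/-- An ind-étale algebra mapping onto a weakly étale w-contractible algebra up to `A'`-combinations. -/
theorem exists_indEtale_generating [Algebra.WeaklyEtale A' B] (hB : EtPBC.IsWContractible B)
    (hdesc : ∀ (G : Type u) [CommRing G] [Algebra A' G] [Algebra A G] [IsScalarTower A A' G] [Algebra.Etale A' G],
      ∃ (E : Type u) (_ : CommRing E) (_ : Algebra A E) (_ : Algebra.Etale A E) (g : E →ₐ[A] G),
        Function.Surjective (ext' A' g)) :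
    ∃ (C : Type u) (_ : CommRing C) (_ : Algebra A C) (φ : C →ₐ[A] B),
      EtPBC.IsIndEtale A C ∧ Function.Surjective (ext' A' φ) := by
  obtain ⟨B', _, _, _, _, hff, hBB', hAB'⟩ := exists_indEtale_cover_of_weaklyEtale A' B
  obtain ⟨r⟩ := hB B' hff (ProEtLib2.weaklyEtale_of_isIndEtale hBB')
  let rA' : B' →ₐ[A'] B := r.restrictScalars A'
  let D := etDiagram A B
  let c := colimit.cocone D
  have hc : IsColimit c := colimit.isColimit D
  letI : Algebra A c.pt.right := c.pt.hom.hom.toAlgebra
  let cC : Cocone D :=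
    { pt := Under.mk (CommRingCat.ofHom (algebraMap A B))
      ι :=
        { app := fun j => ((equivSmallModel (EtOver A B)).inverse.obj j).hom
          naturality := fun i j f =>
            (CostructuredArrow.w ((equivSmallModel (EtOver A B)).inverse.map f)).trans
              (Category.comp_id _).symm } }
  let q : c.pt.right →ₐ[A] B := ⟨(hc.desc cC).right.hom, fun a => congr($(Under.w (hc.desc cC)).hom a)⟩
  have hobj : ∀ (X : EtOver A B) (y : X.ring), ∃ z, q z = X.pt y := fun X y => by
    let e := equivSmallModel (EtOver A B)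
    refine ⟨(c.ι.app (e.functor.obj X)).right.hom (EtOver.algHom (e.unit.app X) y), ?_⟩
    exact (congr($(hc.fac cC (e.functor.obj X)).right.hom (EtOver.algHom (e.unit.app X) y))).trans
      (AlgHom.congr_fun (EtOver.pt_comp (e.unit.app X)) y)
  refine ⟨c.pt.right, inferInstance, inferInstance, q,
    ⟨EtIdx A B, inferInstance, inferInstance, D, c, hc, fun j =>
      ((equivSmallModel (EtOver A B)).inverse.obj j).left.property.toAlgebra,
      ⟨Under.isoMk (Iso.refl _) (Category.comp_id _)⟩⟩, fun b => ?_⟩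
  obtain ⟨J₀, _, _, D₀, c₀, hc₀, hD₀, ⟨e₀⟩⟩ := hAB'
  have hc₁ : IsColimit ((Under.forget _ ⋙ forget CommRingCat.{u}).mapCocone
      (c₀.extend e₀.hom)) :=
    isColimitOfPreserves _ (hc₀.extendIso e₀.hom)
  obtain ⟨k, x, hx⟩ := Types.jointly_surjective_of_isColimit hc₁ (algebraMap B B' b)
  letI : Algebra A' (D₀.obj k).right := (D₀.obj k).hom.hom.toAlgebra
  letI : Algebra A (D₀.obj k).right :=
    ((algebraMap A' (D₀.obj k).right).comp (algebraMap A A')).toAlgebra
  haveI : IsScalarTower A A' (D₀.obj k).right := IsScalarTower.of_algebraMap_eq fun _ => rfl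
  haveI : Algebra.Etale A' (D₀.obj k).right := hD₀ k
  let ι₀ : (D₀.obj k).right →ₐ[A'] B' :=
    ⟨(c₀.ι.app k ≫ e₀.hom).right.hom, fun a => congr($(Under.w (c₀.ι.app k ≫ e₀.hom)).hom a)⟩
  obtain ⟨E, _, _, _, g, hg⟩ := hdesc (D₀.obj k).right
  obtain ⟨y, rfl⟩ := hg x
  let p : (D₀.obj k).right →ₐ[A'] B := rA'.comp ι₀
  have hb : p (ext' A' g y) = b := by
    show r ((c₀.ι.app k ≫ e₀.hom).right.hom (ext' A' g y)) = b
    rw [show (c₀.ι.app k ≫ e₀.hom).right.hom (ext' A' g y) = algebraMap B B' b from hx]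
    exact r.commutes b
  rw [← hb]
  clear hb hx
  induction y using TensorProduct.induction_on with
  | zero => exact ⟨0, by rw [map_zero, map_zero, map_zero]⟩
  | tmul e a =>
    obtain ⟨z, hz⟩ := hobj (EtOver.mk' E ((p.restrictScalars A).comp g)) e
    refine ⟨z ⊗ₜ a, ?_⟩
    rw [ext'_tmul, ext'_tmul, map_mul, AlgHom.commutes, hz]
    rfl
  | add x y hx hy =>
    obtain ⟨s, hs⟩ := hx
    obtain ⟨t, ht⟩ := hy
    exact ⟨s + t, by rw [map_add, hs, ht, map_add, map_add]⟩

/-- A w-contractible weakly étale algebra descends along a universal homeomorphism, with the lifting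
property. -/
theorem exists_lift [Algebra.IsIntegral A A'] [Algebra.WeaklyEtale A' B] (hB : EtPBC.IsWContractible B)
    (hinj : ∀ (C : Type u) [CommRing C] [Algebra A C],
      Function.Injective (PrimeSpectrum.comap (algebraMap C (C ⊗[A] A'))))
    (hdesc : ∀ (G : Type u) [CommRing G] [Algebra A' G] [Algebra A G] [IsScalarTower A A' G] [Algebra.Etale A' G],
      ∃ (E : Type u) (_ : CommRing E) (_ : Algebra A E) (_ : Algebra.Etale A E) (g : E →ₐ[A] G),
        Function.Surjective (ext' A' g)) :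
    ∃ (C : Type u) (_ : CommRing C) (_ : Algebra A C) (ψ : C →ₐ[A] B), Algebra.WeaklyEtale A C ∧
      Function.Bijective (ext' A' ψ) ∧
      ∀ (E : Type u) [CommRing E] [Algebra A E] [Algebra.WeaklyEtale A E] (g : E →ₐ[A] B),
        ∃ g' : E →ₐ[A] C, ψ.comp g' = g := by
  obtain ⟨C₀, _, _, φ₀, hC₀, hφ₀⟩ := exists_indEtale_generating A' hB hdesc
  haveI := ProEtLib2.weaklyEtale_of_isIndEtale hC₀
  obtain ⟨D, _, _, hffD, hindD, hD⟩ := exists_wContractible_cover C₀
  haveI := hffD
  haveI := ProEtLib2.weaklyEtale_of_isIndEtale hindD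
  letI : Algebra C₀ B := φ₀.toRingHom.toAlgebra
  haveI : IsScalarTower A C₀ B := IsScalarTower.of_algebraMap_eq fun x => (φ₀.commutes x).symm
  obtain ⟨s⟩ := hB (B ⊗[C₀] D) inferInstance inferInstance
  letI : Algebra A D := ((algebraMap C₀ D).comp (algebraMap A C₀)).toAlgebra
  haveI : IsScalarTower A C₀ D := IsScalarTower.of_algebraMap_eq' rfl
  haveI : Algebra.WeaklyEtale A D := Algebra.WeaklyEtale.trans A C₀ D
  let φ : D →ₐ[A] B :=
    ((s.restrictScalars C₀).comp (Algebra.TensorProduct.includeRight : D →ₐ[C₀] B ⊗[C₀] D)).restrictScalars A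
  have hφ : Function.Surjective (ext' A' φ) :=
    ext'_surjective_of_comp A' φ₀ φ (algebraMap C₀ D) (fun c => ((s.restrictScalars C₀).comp
      (Algebra.TensorProduct.includeRight : D →ₐ[C₀] B ⊗[C₀] D)).commutes c) hφ₀
  have hφi := isIntegral_of_ext'_surjective A' φ hφ
  obtain ⟨C, _, _, _, _, ψ, hC, -, hS, hψ, hunit⟩ := exists_localization_units φ
  let S := (IsUnit.submonoid B).comap φ
  haveI := hC
  haveI : IsLocalization S C := hS
  have hψs : Function.Surjective (ext' A' ψ) := ext'_surjective_of_comp A' φ ψ (algebraMap D C) hψ hφ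
  have hψi := isIntegral_of_ext'_surjective A' ψ hψs
  have hk : ∀ (M : Ideal C) [M.IsMaximal], RingHom.ker ψ.toRingHom ≤ M :=
    fun M _ => ker_le_maximal_of_isUnit ψ.toRingHom hunit M
  -- the base change of `C` is `B`
  have hθl : (ext' A' ψ).toRingHom.comp (algebraMap C (C ⊗[A] A')) = ψ.toRingHom := RingHom.ext fun d => by
    show ext' A' ψ (d ⊗ₜ 1) = ψ d
    rw [ext'_tmul, map_one, mul_one]
  have hθ : Function.Bijective (ext' A' ψ) := by
    refine ⟨(injective_iff_map_eq_zero _).2 fun x hx => ?_, hψs⟩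
    let P := A' ⊗[A] C
    let κ : C ⊗[A] A' ≃ₐ[A] P := Algebra.TensorProduct.comm A C A'
    let θ' : P →ₐ[A'] B := Algebra.TensorProduct.lift (Algebra.ofId A' B) ψ fun _ _ => Commute.all _ _
    have hθ' : ∀ y, θ' (κ y) = ext' A' ψ y := fun y => by
      induction y using TensorProduct.induction_on with
      | zero => simp
      | tmul d a =>
        show θ' (a ⊗ₜ d) = _
        rw [Algebra.TensorProduct.lift_tmul, ext'_tmul, mul_comm]
        rfl
      | add a b ha hb => rw [map_add, map_add, map_add, ha, hb]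
    letI : Algebra P B := θ'.toRingHom.toAlgebra
    haveI : IsScalarTower A' P B := IsScalarTower.of_algebraMap_eq fun x => (θ'.commutes x).symm
    haveI := weaklyEtale_cancel A' P B
    have hs : Function.Surjective θ'.toRingHom := fun b => by
      obtain ⟨y, rfl⟩ := hψs b
      exact ⟨κ y, hθ' y⟩
    obtain ⟨z, hz, hzx⟩ := exists_kill (φ := θ'.toRingHom)
      (RingHom.flat_algebraMap_iff.2 (inferInstance : Module.Flat P B)) hs (κ x) ((hθ' x).trans hx)
    have hzu : IsUnit (κ.symm z) := by
      refine isUnit_iff_exists_inv.2 ?_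
      by_contra hne
      have hnu : ¬IsUnit (κ.symm z) := fun h => hne (isUnit_iff_exists_inv.1 h)
      obtain ⟨M, hM, hzM⟩ := exists_max_ideal_of_mem_nonunits hnu
      haveI := hM
      haveI : (M.comap (algebraMap C (C ⊗[A] A'))).IsMaximal :=
        Ideal.isMaximal_comap_of_isIntegral_of_isMaximal M
      obtain ⟨Q, hQ, hQp⟩ := exists_prime_over ψ.toRingHom hψi _ (hk (M.comap (algebraMap C (C ⊗[A] A'))))
      haveI := hQ
      have he : (⟨M, hM.isPrime⟩ : PrimeSpectrum (C ⊗[A] A')) =
          PrimeSpectrum.comap (ext' A' ψ).toRingHom ⟨Q, hQ⟩ := hinj C (PrimeSpectrum.ext (by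
        show M.comap _ = (Q.comap (ext' A' ψ).toRingHom).comap _
        rw [Ideal.comap_comap, hθl, hQp]))
      have hzQ : ext' A' ψ (κ.symm z) ∈ Q := by
        have := congrArg PrimeSpectrum.asIdeal he
        exact (SetLike.ext_iff.1 this _).1 hzM
      rw [← hθ', AlgEquiv.apply_symm_apply, show θ' z = 1 from hz] at hzQ
      exact hQ.ne_top ((Ideal.eq_top_iff_one Q).2 hzQ)
    have h0 : κ.symm z * x = 0 := by
      have := congrArg κ.symm hzx
      rwa [map_mul, map_zero, AlgEquiv.symm_apply_apply] at this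
    exact hzu.mul_right_eq_zero.1 h0
  -- primes of `B` are determined in `C`
  have hψinj : Function.Injective (PrimeSpectrum.comap ψ.toRingHom) := by
    rw [← hθl, PrimeSpectrum.comap_comp]
    exact (hinj C).comp (PrimeSpectrum.comap_injective_of_surjective _ hψs)
  obtain ⟨hW, -, hsh⟩ := isWContractible_iff.1 hD
  have hcm : ∀ M : Ideal C, M.IsMaximal → (M.comap (algebraMap D C)).IsMaximal := fun M hM => by
    haveI := hM
    obtain ⟨q, hq, hle⟩ := Ideal.exists_le_maximal (M.comap (algebraMap D C))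
      (Ideal.comap_ne_top _ hM.ne_top)
    haveI := hq
    suffices h : q = M.comap (algebraMap D C) from h ▸ hq
    have hkq : RingHom.ker φ.toRingHom ≤ q := fun z hz => hle (by
      show algebraMap D C z ∈ M
      exact hk M (show ψ (algebraMap D C z) = 0 by rw [hψ]; exact hz))
    obtain ⟨Q, hQ, hQq⟩ := exists_prime_over φ.toRingHom hφi q hkq
    have hdis : Disjoint (S : Set D) (q : Set D) := Set.disjoint_left.2 fun x hxS hxq => by
      refine hQ.ne_top (Ideal.eq_top_of_isUnit_mem _ ?_ (show IsUnit (φ x) from hxS))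
      have h : x ∈ Q.comap φ.toRingHom := hQq.symm ▸ hxq
      exact h
    haveI : (q.map (algebraMap D C)).IsPrime := IsLocalization.isPrime_of_isPrime_disjoint S C q inferInstance hdis
    have hMq : M ≤ q.map (algebraMap D C) := by
      rw [← IsLocalization.map_under S C M]
      exact Ideal.map_mono hle
    rw [hM.eq_of_le ‹(q.map (algebraMap D C)).IsPrime›.ne_top hMq]
    exact (IsLocalization.comap_map_of_isPrime_disjoint S C inferInstance hdis).symm
  have huniq : ∀ (p : Ideal C), p.IsPrime → ∀ M M' : Ideal C, M.IsMaximal → M'.IsMaximal → p ≤ M → p ≤ M' → M = M' := by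
    intro p hp M M' hM hM' h h'
    haveI := hp
    obtain ⟨z, -, hz⟩ := hW.2.2 (⟨p.comap (algebraMap D C), inferInstance⟩ : PrimeSpectrum D)
    have hz' : ∀ N : Ideal C, ∀ (hN : N.IsMaximal), p ≤ N →
        (⟨N.comap (algebraMap D C), (hcm N hN).isPrime⟩ : PrimeSpectrum D) = z := fun N hN hpN =>
      hz _ ⟨(PrimeSpectrum.isClosed_singleton_iff_isMaximal _).2 (hcm N hN),
        (PrimeSpectrum.le_iff_specializes _ _).1 (Ideal.comap_mono hpN)⟩
    have he : M.comap (algebraMap D C) = M'.comap (algebraMap D C) :=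
      congrArg PrimeSpectrum.asIdeal ((hz' M hM h).trans (hz' M' hM' h').symm)
    exact (IsLocalization.map_under S C M).symm.trans
      ((congrArg (Ideal.map (algebraMap D C)) he).trans (IsLocalization.map_under S C M'))
  have hshC : ∀ (M : Ideal C) [M.IsMaximal], EtCoh.IsStrictlyHenselianLocalRing (Localization.AtPrime M) := by
    intro M hM
    haveI := hcm M hM
    exact isStrictlyHenselian_of_ringEquiv
      (RingEquiv.ofBijective _ ((idAt_iff_bijective ⟨M, hM.isPrime⟩).2 (idAt_of_isLocalization S ⟨M, hM.isPrime⟩)))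
      (hsh (M.comap (algebraMap D C)))
  refine ⟨C, inferInstance, inferInstance, ψ, hC, hθ, fun E _ _ _ g => ?_⟩
  let P := C ⊗[A] E
  let χ : P →ₐ[A] B := Algebra.TensorProduct.lift ψ g fun _ _ => Commute.all _ _
  haveI : Algebra.WeaklyEtale A P := Algebra.WeaklyEtale.trans A C P
  obtain ⟨E₂, _, _, _, _, χ₂, -, hPE₂, -, hχ₂, hunit₂⟩ := exists_localization_units χ
  haveI := hPE₂
  letI : Algebra C E₂ := ((algebraMap P E₂).comp (algebraMap C P)).toAlgebra
  haveI : IsScalarTower C P E₂ := IsScalarTower.of_algebraMap_eq' rfl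
  haveI : Algebra.WeaklyEtale C E₂ := Algebra.WeaklyEtale.trans C P E₂
  have hκ : χ₂.toRingHom.comp (algebraMap C E₂) = ψ.toRingHom := RingHom.ext fun c => (hχ₂ _).trans (by
    show χ (c ⊗ₜ 1) = ψ c
    rw [Algebra.TensorProduct.lift_tmul, map_one, mul_one])
  have hχi : χ₂.toRingHom.IsIntegral :=
    RingHom.IsIntegral.tower_top (algebraMap C E₂) χ₂.toRingHom (hκ.symm ▸ hψi)
  have hMn : ∀ N : Ideal E₂, N.IsMaximal → ∃ n : Ideal B, n.IsMaximal ∧ N = n.comap χ₂.toRingHom ∧
      N.comap (algebraMap C E₂) = n.comap ψ.toRingHom := fun N hN => by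
    haveI := hN
    obtain ⟨n, hn, hnN⟩ := exists_maximal_over χ₂.toRingHom hχi N
      (ker_le_maximal_of_isUnit χ₂.toRingHom hunit₂ N)
    exact ⟨n, hn, hnN.symm, by rw [← hnN, Ideal.comap_comap, hκ]⟩
  have hbij := bijective_of_maximal (E := E₂) huniq hshC
    (fun N hN => by
      obtain ⟨n, hn, -, he⟩ := hMn N hN
      rw [he]
      haveI := hn
      exact isMaximal_comap _ hψi n)
    (fun N N' hN hN' h => by
      obtain ⟨n, hn, rfl, he⟩ := hMn N hN
      obtain ⟨n', hn', rfl, he'⟩ := hMn N' hN'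
      rw [he, he'] at h
      have := hψinj (a₁ := ⟨n, hn.isPrime⟩) (a₂ := ⟨n', hn'.isPrime⟩) (PrimeSpectrum.ext h)
      rw [show n = n' from congrArg PrimeSpectrum.asIdeal this])
    (fun m hm => by
      haveI := hm
      obtain ⟨n, hn, hnm⟩ := exists_maximal_over ψ.toRingHom hψi m (hk m)
      haveI := hn
      exact ⟨n.comap χ₂.toRingHom, isMaximal_comap _ hχi n, by rw [Ideal.comap_comap, hκ, hnm]⟩)
  let ε := RingEquiv.ofBijective (algebraMap C E₂) hbij
  let θ : E →+* E₂ := (algebraMap P E₂).comp (Algebra.TensorProduct.includeRight : E →ₐ[A] P).toRingHom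
  have hθA : ∀ x : A, θ (algebraMap A E x) = algebraMap C E₂ (algebraMap A C x) := fun x => by
    show algebraMap P E₂ ((Algebra.TensorProduct.includeRight : E →ₐ[A] P) (algebraMap A E x)) =
      algebraMap P E₂ (algebraMap C P (algebraMap A C x))
    rw [AlgHom.commutes, ← IsScalarTower.algebraMap_apply A C P]
  let g' : E →ₐ[A] C :=
    { ε.symm.toRingHom.comp θ with
      commutes' := fun x => by
        show ε.symm (θ (algebraMap A E x)) = algebraMap A C x
        rw [hθA]
        exact ε.symm_apply_apply _ }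
  refine ⟨g', AlgHom.ext fun x => ?_⟩
  show ψ (ε.symm (θ x)) = g x
  refine (RingHom.congr_fun hκ (ε.symm (θ x))).symm.trans ?_
  show χ₂ (algebraMap C E₂ (ε.symm (θ x))) = _
  rw [show algebraMap C E₂ (ε.symm (θ x)) = θ x from ε.apply_symm_apply _]
  show χ₂ (algebraMap P E₂ ((1 : C) ⊗ₜ x)) = _
  rw [hχ₂, Algebra.TensorProduct.lift_tmul, map_one, one_mul]

end Groth.Agent.ProEtHomeo
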