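import Groth.Agent.S0075
import Groth.Agent.S0593
import Groth.Agent.ProEtHomeo.Lift

/-!
# Étale algebras over a universal homeomorphism
-/

set_option autoImplicit false
set_option linter.style.haveILetI false
set_option backward.isDefEq.respectTransparency false
set_option backward.isDefEq.respectTransparency.types false
set_option maxHeartbeats 800000

universe u

noncomputable section

namespace Groth.Agent.ProEtHomeo

open CategoryTheory Limits AlgebraicGeometry
open scoped TensorProduct

variable (A A' : Type u) [CommRing A] [CommRing A'] [Algebra A A']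
  [IsIntegralHom (Spec.map (CommRingCat.ofHom (algebraMap A A')))]
  [UniversallyInjective (Spec.map (CommRingCat.ofHom (algebraMap A A')))]
  [Surjective (Spec.map (CommRingCat.ofHom (algebraMap A A')))]

theorem isIntegral_of_spec : Algebra.IsIntegral A A' :=
  ⟨(IsIntegralHom.SpecMap_iff (φ := CommRingCat.ofHom (algebraMap A A'))).1 inferInstance⟩

theorem injective_comap (C : Type u) [CommRing C] [Algebra A C] :
    Function.Injective (PrimeSpectrum.comap (algebraMap C (C ⊗[A] A'))) := by
  have h : UniversallyInjective ((pullbackSpecIso A C A').inv ≫ pullback.fst _ _) := by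
    haveI : UniversallyInjective (pullback.fst (Spec.map (CommRingCat.ofHom (algebraMap A C)))
      (Spec.map (CommRingCat.ofHom (algebraMap A A')))) := MorphismProperty.pullback_fst _ _ inferInstance
    exact (MorphismProperty.cancel_left_of_respectsIso @UniversallyInjective _ _).2 inferInstance
  rw [pullbackSpecIso_inv_fst'] at h
  haveI := h
  exact (Spec.map (CommRingCat.ofHom (algebraMap C (C ⊗[A] A')))).injective

/-- Étale algebras descend. -/
theorem exists_etale_generating (G : Type u) [CommRing G] [Algebra A' G] [Algebra A G] [IsScalarTower A A' G]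
    [Algebra.Etale A' G] :
    ∃ (E : Type u) (_ : CommRing E) (_ : Algebra A E) (_ : Algebra.Etale A E) (g : E →ₐ[A] G),
      Function.Surjective (ext' A' g) := by
  let f : Spec (CommRingCat.of A') ⟶ Spec (CommRingCat.of A) := Spec.map (CommRingCat.ofHom (algebraMap A A'))
  let w : Spec (CommRingCat.of G) ⟶ Spec (CommRingCat.of A') := Spec.map (CommRingCat.ofHom (algebraMap A' G))
  haveI : Etale w := by
    rw [HasRingHomProperty.Spec_iff (P := @Etale)]
    exact RingHom.etale_algebraMap.2 inferInstance
  haveI := Groth.Agent.S0075.result f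
  let U := (EtCoh.bc f).objPreimage (Scheme.Etale.mk w)
  let e : (EtCoh.bc f).obj U ≅ Scheme.Etale.mk w := (EtCoh.bc f).objObjPreimageIso _
  let el : pullback U.hom f ≅ Spec (CommRingCat.of G) := (Scheme.Etale.forget _ ⋙ Over.forget _).mapIso e
  have hel : el.hom ≫ w = pullback.snd U.hom f := MorphismProperty.Over.w e.hom
  haveI : IsAffine (pullback U.hom f) := .of_isIso el.hom
  haveI : IsIntegralHom (pullback.fst U.hom f) := MorphismProperty.pullback_fst _ _ inferInstance
  haveI : Surjective (pullback.fst U.hom f) := MorphismProperty.pullback_fst _ _ inferInstance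
  haveI : UniversallyClosed (pullback.fst U.hom f) := inferInstance
  haveI : IsAffine U.left := Groth.Agent.S0593.result _ _ (pullback.fst U.hom f)
  let a : CommRingCat.of A ⟶ Γ(U.left, ⊤) := Spec.preimage (U.left.isoSpec.inv ≫ U.hom)
  have ha : Spec.map a = U.left.isoSpec.inv ≫ U.hom := Spec.map_preimage _
  letI : Algebra A Γ(U.left, ⊤) := a.hom.toAlgebra
  haveI : Etale U.hom := U.prop
  haveI : Algebra.Etale A Γ(U.left, ⊤) := by
    rw [← RingHom.etale_algebraMap, ← CommRingCat.hom_ofHom (algebraMap A Γ(U.left, ⊤)),
      ← HasRingHomProperty.Spec_iff (P := @Etale)]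
    show Etale (Spec.map a)
    rw [ha]
    infer_instance
  let E : Type u := Γ(U.left, ⊤)
  let j : pullback (Spec.map (CommRingCat.ofHom (algebraMap A E))) f ≅ pullback U.hom f :=
    asIso (pullback.map _ _ _ _ U.left.isoSpec.inv (𝟙 _) (𝟙 (Spec (CommRingCat.of A))) (by
      rw [Category.comp_id]; exact ha) (by simp))
  let ρ : Spec (CommRingCat.of (E ⊗[A] A')) ≅ Spec (CommRingCat.of G) :=
    (pullbackSpecIso A E A').symm ≪≫ j ≪≫ el
  let θ : CommRingCat.of G ⟶ CommRingCat.of (E ⊗[A] A') := Spec.preimage ρ.hom
  have hθ : Spec.map θ = ρ.hom := Spec.map_preimage _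
  haveI : IsIso θ := by
    haveI : IsIso (Spec.map θ) := hθ ▸ inferInstance
    exact (isIso_op_iff θ).1 (@isIso_of_reflects_iso _ _ _ _ _ _ θ.op Scheme.Spec ‹IsIso (Spec.map θ)› _)
  have hθA : ∀ x : A', θ (algebraMap A' G x) = (1 : E) ⊗ₜ[A] x := fun x => by
    have h : CommRingCat.ofHom (algebraMap A' G) ≫ θ =
        CommRingCat.ofHom (Algebra.TensorProduct.includeRight : A' →ₐ[A] E ⊗[A] A').toRingHom := by
      apply Spec.map_injective
      rw [Spec.map_comp, hθ]
      show ((pullbackSpecIso A E A').inv ≫ j.hom ≫ el.hom) ≫ w = _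
      rw [Category.assoc, Category.assoc, hel]
      rw [show j.hom ≫ pullback.snd U.hom f = pullback.snd _ f from (pullback.lift_snd _ _ _).trans (Category.comp_id _),
        pullbackSpecIso_inv_snd]
      rfl
    exact congr($h x)
  let t := RingEquiv.ofBijective θ.hom (ConcreteCategory.bijective_of_isIso θ)
  let g : E →ₐ[A] G :=
    { t.symm.toRingHom.comp (Algebra.TensorProduct.includeLeft : E →ₐ[A] E ⊗[A] A').toRingHom with
      commutes' := fun r => by
        show t.symm ((Algebra.TensorProduct.includeLeft : E →ₐ[A] E ⊗[A] A') (algebraMap A E r)) = _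
        rw [AlgHom.commutes, RingEquiv.symm_apply_eq]
        show _ = θ (algebraMap A G r)
        rw [IsScalarTower.algebraMap_apply A A' G, hθA]
        exact ((Algebra.TensorProduct.includeRight : A' →ₐ[A] E ⊗[A] A').commutes r).symm }
  refine ⟨E, inferInstance, inferInstance, inferInstance, g, fun x => ⟨t x, ?_⟩⟩
  have hall : ∀ y, ext' A' g y = t.symm y := fun y => by
    induction y using TensorProduct.induction_on with
    | zero => rw [map_zero, map_zero]
    | tmul e a =>
      rw [ext'_tmul]
      show t.symm (e ⊗ₜ[A] (1 : A')) * algebraMap A' G a = _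
      rw [show algebraMap A' G a = t.symm ((1 : E) ⊗ₜ[A] a) from ((t.symm_apply_eq).2 (hθA a).symm).symm,
        ← map_mul, Algebra.TensorProduct.tmul_mul_tmul, mul_one, one_mul]
    | add a b ha hb => rw [map_add, map_add, ha, hb]
  rw [hall, RingEquiv.symm_apply_apply]

end Groth.Agent.ProEtHomeo
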