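import Groth.Prelude.Def_ProEtS
import Groth.Agent.ProEtHomeo.Desc
import Groth.Agent.WLocalLib.WeakEtaleScheme

/-!
# Lifting w-contractible pro-étale objects along universal homeomorphisms
-/

set_option autoImplicit false
set_option linter.style.haveILetI false
set_option backward.isDefEq.respectTransparency false
set_option backward.isDefEq.respectTransparency.types false
set_option maxHeartbeats 1000000
universe u

noncomputable section

namespace Groth.Agent.ProEtHomeo

open CategoryTheory Limits AlgebraicGeometry Opposite TensorProduct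

variable {Z X : Scheme.{u}} (i : Z ⟶ X) [IsIntegralHom i] [UniversallyInjective i] [Surjective i]

/-- A w-contractible affine weakly étale scheme over `Z` is the pullback of an affine weakly étale scheme
over `X`, to which morphisms into affine weakly étale schemes lift. -/
theorem exists_lift_obj (Xa : X.Opens) (hXa : IsAffineOpen Xa) (B : Type u) [CommRing B]
    (hB : EtPBC.IsWContractible B) (w : Spec (CommRingCat.of B) ⟶ Z) [WeaklyEtale w]
    (hw : ∀ t, w t ∈ i ⁻¹ᵁ Xa) :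
    ∃ (V : X.ProEt) (q : Spec (CommRingCat.of B) ⟶ V.left), IsAffine V.left ∧ (∀ v, V.hom v ∈ Xa) ∧
      IsPullback q w V.hom i ∧
      ∀ (U : X.ProEt) (O : U.left.Opens), IsAffineOpen O → O ≤ U.hom ⁻¹ᵁ Xa →
        ∀ (h : Spec (CommRingCat.of B) ⟶ (O : Scheme.{u})), h ≫ O.ι ≫ U.hom = w ≫ i →
          ∃ g : V ⟶ U, q ≫ g.left = h ≫ O.ι := by
  let A := Γ(X, Xa)
  let Za := i ⁻¹ᵁ Xa
  have hZa : IsAffineOpen Za := hXa.preimage i
  let φ : A ⟶ Γ(Z, Za) := i.app Xa
  have hr : Set.range w ⊆ Set.range hZa.fromSpec := by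
    rw [hZa.range_fromSpec]
    rintro _ ⟨t, rfl⟩
    exact hw t
  let w₀ := IsOpenImmersion.lift hZa.fromSpec w hr
  have hw₀ : w₀ ≫ hZa.fromSpec = w := IsOpenImmersion.lift_fac _ _ _
  haveI : WeaklyEtale (w₀ ≫ hZa.fromSpec) := hw₀ ▸ inferInstance
  haveI : WeaklyEtale w₀ := WeaklyEtale.of_comp w₀ hZa.fromSpec
  let β : Γ(Z, Za) ⟶ CommRingCat.of B := Spec.preimage w₀
  have hβ : Spec.map β = w₀ := Spec.map_preimage _
  letI : Algebra A Γ(Z, Za) := φ.hom.toAlgebra
  letI : Algebra Γ(Z, Za) B := β.hom.toAlgebra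
  letI : Algebra A B := (β.hom.comp φ.hom).toAlgebra
  haveI : IsScalarTower A Γ(Z, Za) B := IsScalarTower.of_algebraMap_eq fun a => rfl
  haveI : WeaklyEtale (Spec.map (CommRingCat.ofHom (algebraMap Γ(Z, Za) B))) := by
    show WeaklyEtale (Spec.map β)
    rw [hβ]
    infer_instance
  haveI : Algebra.WeaklyEtale Γ(Z, Za) B := WLocalLib.weaklyEtale_of_specMap
  have sqZ : IsPullback (Spec.map φ) hZa.fromSpec hXa.fromSpec i := by
    have hcomm : Spec.map φ ≫ hXa.fromSpec = hZa.fromSpec ≫ i := by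
      rw [← IsAffineOpen.SpecMap_appLE_fromSpec i hXa hZa le_rfl]
      show Spec.map (i.app Xa) ≫ _ = _
      rw [Scheme.Hom.app_eq_appLE]
    exact IsOpenImmersion.isPullback _ _ _ _ hcomm.symm
      (by rw [hXa.opensRange_fromSpec, hZa.opensRange_fromSpec])
  haveI : IsIntegralHom (Spec.map (CommRingCat.ofHom (algebraMap A Γ(Z, Za)))) :=
    MorphismProperty.of_isPullback (P := @IsIntegralHom) sqZ.flip ‹_›
  haveI : UniversallyInjective (Spec.map (CommRingCat.ofHom (algebraMap A Γ(Z, Za)))) :=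
    MorphismProperty.of_isPullback (P := @UniversallyInjective) sqZ.flip ‹_›
  haveI : Surjective (Spec.map (CommRingCat.ofHom (algebraMap A Γ(Z, Za)))) :=
    MorphismProperty.of_isPullback (P := @Surjective) sqZ.flip ‹_›
  haveI := isIntegral_of_spec A Γ(Z, Za)
  obtain ⟨C, _, _, ψ, hC, hθ, huniv⟩ := exists_lift (A := A) (B := B) Γ(Z, Za) hB
    (fun C _ _ => injective_comap A Γ(Z, Za) C)
    (fun G _ _ _ _ _ => exists_etale_generating A Γ(Z, Za) G)
  haveI := hC
  haveI := WLocalLib.weaklyEtale_spec (A := A) (B := C)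
  let v : Spec (CommRingCat.of C) ⟶ X := Spec.map (CommRingCat.ofHom (algebraMap A C)) ≫ hXa.fromSpec
  let V : X.ProEt := Scheme.ProEt.mk v
  let q : Spec (CommRingCat.of B) ⟶ V.left := Spec.map (CommRingCat.ofHom ψ.toRingHom)
  -- the square over the affine pieces
  let θ : C ⊗[A] Γ(Z, Za) →ₐ[A] B := ext' Γ(Z, Za) ψ
  let εr : CommRingCat.of (C ⊗[A] Γ(Z, Za)) ≅ CommRingCat.of B := (RingEquiv.ofBijective θ hθ).toCommRingCatIso
  have sqB : IsPullback q w₀ (Spec.map (CommRingCat.ofHom (algebraMap A C))) (Spec.map φ) := by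
    let e : Spec (CommRingCat.of B) ≅ pullback (Spec.map (CommRingCat.ofHom (algebraMap A C)))
        (Spec.map (CommRingCat.ofHom (algebraMap A Γ(Z, Za)))) :=
      asIso (Spec.map εr.hom) ≪≫ (pullbackSpecIso A C Γ(Z, Za)).symm
    refine IsPullback.of_iso_pullback ⟨?_⟩ e ?_ ?_
    · show Spec.map (CommRingCat.ofHom ψ.toRingHom) ≫ _ = _
      rw [← hβ, ← Spec.map_comp, ← Spec.map_comp]
      congr 1
      ext a
      exact ψ.commutes a
    · rw [Iso.trans_hom, Iso.symm_hom, Category.assoc]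
      refine (congrArg ((asIso (Spec.map εr.hom)).hom ≫ ·) (pullbackSpecIso_inv_fst _ _ _)).trans ?_
      rw [asIso_hom, ← Spec.map_comp]
      show Spec.map _ = Spec.map _
      congr 1
      ext c
      show θ (c ⊗ₜ 1) = ψ c
      rw [ext'_tmul, map_one, mul_one]
    · rw [Iso.trans_hom, Iso.symm_hom, Category.assoc]
      refine (congrArg ((asIso (Spec.map εr.hom)).hom ≫ ·) (pullbackSpecIso_inv_snd _ _ _)).trans ?_
      rw [asIso_hom, ← Spec.map_comp, ← hβ]
      congr 1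
      ext a
      show θ (1 ⊗ₜ a) = β a
      rw [ext'_tmul, map_one, one_mul]
      rfl
  have sq : IsPullback q w V.hom i := hw₀ ▸ sqB.paste_vert sqZ
  have hVX : ∀ t, V.hom t ∈ Xa := fun t => by
    show (Spec.map _ ≫ hXa.fromSpec) t ∈ Xa
    rw [Scheme.Hom.comp_apply]
    exact hXa.range_fromSpec.le (Set.mem_range_self _)
  refine ⟨V, q, inferInstanceAs (IsAffine (Spec _)), hVX, sq, fun U O hO hle h hh => ?_⟩
  haveI : WeaklyEtale U.hom := U.prop
  letI : Algebra A Γ(U.left, O) := (U.hom.appLE Xa O hle).hom.toAlgebra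
  haveI : Algebra.WeaklyEtale A Γ(U.left, O) := WLocalLib.weaklyEtale_appLE U.hom hXa hO hle
  let γ : Γ(U.left, O) ⟶ CommRingCat.of B := Spec.preimage (h ≫ hO.isoSpec.hom)
  have hγ : Spec.map γ = h ≫ hO.isoSpec.hom := Spec.map_preimage _
  have hcomm : ∀ a : A, γ (algebraMap A Γ(U.left, O) a) = algebraMap A B a := fun a => by
    have e : U.hom.appLE Xa O hle ≫ γ = φ ≫ β := by
      apply Spec.map_injective
      rw [Spec.map_comp, Spec.map_comp, hγ, hβ, ← cancel_mono hXa.fromSpec, Category.assoc, Category.assoc,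
        hXa.SpecMap_appLE_fromSpec U.hom hO hle]
      have e1 : h ≫ hO.isoSpec.hom ≫ hO.fromSpec ≫ U.hom = w ≫ i := by
        rw [← IsAffineOpen.isoSpec_inv_ι hO, ← hh]
        simp
      have e2 : (w₀ ≫ Spec.map φ) ≫ hXa.fromSpec = w ≫ i := by
        calc (w₀ ≫ Spec.map φ) ≫ hXa.fromSpec = w₀ ≫ Spec.map φ ≫ hXa.fromSpec := Category.assoc _ _ _
          _ = w₀ ≫ hZa.fromSpec ≫ i := congrArg (w₀ ≫ ·) sqZ.w
          _ = (w₀ ≫ hZa.fromSpec) ≫ i := (Category.assoc _ _ _).symm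
          _ = w ≫ i := congrArg (· ≫ i) hw₀
      exact e1.trans e2.symm
    exact congr($e a)
  let γ' : Γ(U.left, O) →ₐ[A] B := { γ.hom with commutes' := hcomm }
  obtain ⟨g₀, hg₀⟩ := huniv Γ(U.left, O) γ'
  let g : V.left ⟶ U.left := Spec.map (CommRingCat.ofHom g₀.toRingHom) ≫ hO.isoSpec.inv ≫ O.ι
  have hg : g ≫ U.hom = V.hom := by
    show (Spec.map _ ≫ _ ≫ _) ≫ U.hom = Spec.map _ ≫ hXa.fromSpec
    rw [show hO.isoSpec.inv ≫ O.ι = hO.fromSpec from IsAffineOpen.isoSpec_inv_ι hO, Category.assoc,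
      ← hXa.SpecMap_appLE_fromSpec U.hom hO hle, ← Spec.map_comp_assoc]
    congr 2
    ext a
    exact g₀.commutes a
  refine ⟨MorphismProperty.Over.homMk g hg, ?_⟩
  show Spec.map (CommRingCat.ofHom ψ.toRingHom) ≫ Spec.map _ ≫ hO.isoSpec.inv ≫ O.ι = _
  rw [← Spec.map_comp_assoc, show CommRingCat.ofHom g₀.toRingHom ≫ CommRingCat.ofHom ψ.toRingHom = γ from
    CommRingCat.hom_ext (congrArg AlgHom.toRingHom hg₀), hγ]
  simp

end Groth.Agent.ProEtHomeo
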