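import Groth.Agent.ProEtHomeo.Dense
import Groth.Agent.ProEtSLib.Cont
import Groth.Agent.S7284
import Mathlib.AlgebraicGeometry.Morphisms.FlatMono

/-!
# The pro-étale site is invariant under universal homeomorphisms
-/

set_option autoImplicit false
set_option linter.style.haveILetI false
set_option backward.isDefEq.respectTransparency false
set_option backward.isDefEq.respectTransparency.types false
set_option maxHeartbeats 1000000
universe u

noncomputable section

namespace Groth.Agent.ProEtHomeo

open CategoryTheory Limits AlgebraicGeometry Opposite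

/-- A covering of an affine object has finitely many affine members which are jointly surjective. -/
theorem exists_affine_family {S : Scheme.{u}} {U : S.ProEt} (hU : IsAffine U.left) (R : Sieve U)
    (hR : R ∈ Scheme.ProEt.topology S U) :
    ∃ (n : ℕ) (V : Fin n → S.ProEt) (g : ∀ k, V k ⟶ U),
      (∀ k, IsAffine (V k).left ∧ R (g k)) ∧ ∀ x : U.left, ∃ k, x ∈ Set.range (g k).left := by
  haveI : WeaklyEtale U.hom := U.prop
  replace hR := (MorphismProperty.coverPreserving_comap_forget (S := S) Scheme.proetalePrecoverage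
    Scheme.proetalePrecoverage_le_precoverage_weaklyEtale).cover_preserve hR
  rw [GrothendieckTopology.mem_over_iff] at hR
  obtain ⟨R₀, hR₀, hle⟩ := Precoverage.mem_toGrothendieck_iff_of_isStableUnderComposition.1 hR
  obtain ⟨𝒱, rfl⟩ := R₀.exists_eq_preZeroHypercover
  haveI : QuasiCompactCover 𝒱 := Scheme.presieve₀_mem_qcPrecoverage_iff.1 hR₀.1
  obtain ⟨n, φ, W, hW, heq⟩ := QuasiCompactCover.exists_isAffineOpen_of_isCompact 𝒱 (U := (⊤ : Scheme.Opens U.left))
    (@isCompact_univ U.left _ inferInstance)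
  haveI : ∀ i, WeaklyEtale (𝒱.f i) := fun i =>
    ((Scheme.presieve₀_mem_precoverage_iff _).1 hR₀.2).2 i
  let V : Fin n → S.ProEt := fun k => Scheme.ProEt.mk (((W k).ι ≫ 𝒱.f (φ k)) ≫ U.hom)
  let g : ∀ k, V k ⟶ U := fun k => MorphismProperty.Over.homMk ((W k).ι ≫ 𝒱.f (φ k)) rfl
  refine ⟨n, V, g, fun k => ⟨hW k, ?_⟩, fun x => ?_⟩
  · obtain ⟨Y, g₀, h₀, hg₀, he⟩ := (Sieve.overEquiv_iff _ _).1 (hle _ _ (Presieve.ofArrows.mk (φ k) :
      𝒱.presieve₀ (𝒱.f (φ k))))
    let l : (Scheme.ProEt.forget S).obj (V k) ⟶ (Scheme.ProEt.forget S).obj Y :=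
      (Over.homMk (W k).ι (Category.assoc _ _ _).symm :
        (Scheme.ProEt.forget S).obj (V k) ⟶ Over.mk (𝒱.f (φ k) ≫ U.hom)) ≫ h₀
    have e : g k = (Scheme.ProEt.forgetFullyFaithful S).preimage l ≫ g₀ := by
      apply (Scheme.ProEt.forget S).map_injective
      rw [Functor.map_comp, Functor.FullyFaithful.map_preimage, Category.assoc]
      refine Over.OverMorphism.ext ?_
      exact congrArg (fun t => (W k).ι ≫ t.left) he
    rw [e]
    exact R.downward_closed hg₀ _
  · have hx : x ∈ ((⊤ : U.left.Opens) : Set U.left) := trivial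
    rw [← heq, Set.mem_iUnion] at hx
    obtain ⟨k, y, hy, rfl⟩ := hx
    exact ⟨k, ⟨y, hy⟩, rfl⟩

variable {Z X : Scheme.{u}} (i : Z ⟶ X) [IsIntegralHom i] [UniversallyInjective i] [Surjective i]

theorem faithful_bcP : (ProEtS.bcP i).Faithful := ⟨fun {U V g g'} h => by
  refine (Scheme.ProEt.forget X ⋙ Over.forget X).map_injective ?_
  show g.left = g'.left
  haveI : WeaklyEtale V.hom := V.prop
  haveI : Surjective (pullback.fst U.hom i) := MorphismProperty.pullback_fst _ _ inferInstance
  have hw : pullback.fst U.hom i ≫ g.left = pullback.fst U.hom i ≫ g'.left := by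
    rw [← bcP_map_fst i g, ← bcP_map_fst i g', h]
  let p := pullback.lift g.left g'.left ((MorphismProperty.Over.w g).trans (MorphismProperty.Over.w g').symm)
  let e := pullback.fst p (pullback.diagonal V.hom)
  haveI : Surjective e := ⟨fun x => by
    obtain ⟨z, rfl⟩ := (pullback.fst U.hom i).surjective x
    refine ⟨pullback.lift (pullback.fst U.hom i) (pullback.fst U.hom i ≫ g.left) ?_ z, ?_⟩
    · apply pullback.hom_ext
      · simp [p]
      · simp [p, hw]
    · exact (Scheme.Hom.comp_apply _ _ _).symm.trans (congrArg (fun m : pullback U.hom i ⟶ U.left => m z) (pullback.lift_fst _ _ _))⟩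
  haveI : IsImmersion e := MorphismProperty.pullback_fst _ _ inferInstance
  haveI : IsClosedImmersion e := IsClosedImmersion.of_isPreimmersion e (by
    rw [Set.range_eq_univ.2 e.surjective]; exact isClosed_univ)
  haveI : Flat (pullback.diagonal V.hom) := WeaklyEtale.flat_diagonal
  haveI : Flat e := MorphismProperty.pullback_fst _ _ inferInstance
  haveI : IsIso e := Flat.isIso_of_surjective_of_mono e
  have hp := pullback.condition (f := p) (g := pullback.diagonal V.hom)
  have h1 : e ≫ g.left = pullback.snd p (pullback.diagonal V.hom) := by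
    have := congrArg (· ≫ pullback.fst V.hom V.hom) hp
    simpa [p] using this
  have h2 : e ≫ g'.left = pullback.snd p (pullback.diagonal V.hom) := by
    have := congrArg (· ≫ pullback.snd V.hom V.hom) hp
    simpa [p] using this
  exact (cancel_epi e).1 (h1.trans h2.symm)⟩

theorem mem_of_bc_mem_affine {U : X.ProEt} [IsAffine U.left] {S : Sieve U}
    (hS : S.functorPushforward (ProEtS.bcP i) ∈ Scheme.ProEt.topology Z _) :
    S ∈ Scheme.ProEt.topology X U := by
  haveI : IsAffineHom (pullback.fst U.hom i) := MorphismProperty.pullback_fst _ _ inferInstance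
  have hA : IsAffine ((ProEtS.bcP i).obj U).left := @isAffine_of_isAffineHom _ _ (pullback.fst U.hom i) _ ‹IsAffine U.left›
  obtain ⟨n, V, g, hg, hs⟩ := exists_affine_family hA _ hS
  choose Y f h hSf hfac using fun k => (hg k).2
  have hcov : ∀ (k : Fin n) (v : (V k).left), ∃ O : (Y k).left.Opens,
      IsAffineOpen O ∧ ((h k).left ≫ pullback.fst (Y k).hom i) v ∈ O := fun k v => by
    obtain ⟨O, hO, hvO, -⟩ := ProEtFull.exists_affine_nhd (U := (Y k).left)
      (x := ((h k).left ≫ pullback.fst (Y k).hom i) v) (W := ⊤) trivial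
    exact ⟨O, hO, hvO⟩
  choose O hO hvO using hcov
  have hfin : ∀ k, ∃ t : Finset (V k).left, ∀ v, ∃ v' ∈ t,
      ((h k).left ≫ pullback.fst (Y k).hom i) v ∈ O k v' := fun k => by
    haveI := (hg k).1
    obtain ⟨t, ht⟩ := isCompact_univ.elim_finite_subcover
      (fun v' => (((h k).left ≫ pullback.fst (Y k).hom i) ⁻¹ᵁ O k v' : Set (V k).left))
      (fun v' => (((h k).left ≫ pullback.fst (Y k).hom i) ⁻¹ᵁ O k v').2) fun v _ => Set.mem_iUnion.2 ⟨v, hvO k v⟩
    exact ⟨t, fun v => by simpa using ht (Set.mem_univ v)⟩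
  choose t ht using hfin
  let ι := ULift.{u} ((k : Fin n) × {v // v ∈ t k})
  haveI : Finite ι := inferInstance
  let W : ι → X.ProEt := fun j => ProEtWC.opObj (Y j.down.1) (O j.down.1 j.down.2.1)
  let w : ∀ j, W j ⟶ U := fun j => ProEtWC.opIncl _ _ ≫ f j.down.1
  refine GrothendieckTopology.superset_covering _ ?_
    (Groth.Agent.S7284.covering_of_finite_affine (U := U) inferInstance (V := W) (fun j => hO _ _) w fun x => ?_)
  · rw [Sieve.ofArrows, Sieve.generate_le_iff]
    rintro _ _ ⟨j⟩
    exact S.downward_closed (hSf _) _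
  · haveI : Surjective (pullback.fst U.hom i) := MorphismProperty.pullback_fst _ _ inferInstance
    obtain ⟨z, rfl⟩ := (pullback.fst U.hom i).surjective x
    obtain ⟨k, v, rfl⟩ := hs z
    obtain ⟨v', hv', hvO'⟩ := ht k v
    refine ⟨⟨⟨k, v', hv'⟩⟩, ⟨_, hvO'⟩, ?_⟩
    have e : (g k).left ≫ pullback.fst U.hom i = ((h k).left ≫ pullback.fst (Y k).hom i) ≫ (f k).left := by
      rw [hfac k]
      show ((h k).left ≫ ((ProEtS.bcP i).map (f k)).left) ≫ pullback.fst U.hom i = _
      rw [Category.assoc, bcP_map_fst i (f k), Category.assoc]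
    exact ((congrArg (fun m : (V k).left ⟶ U.left => m v) e).trans (Scheme.Hom.comp_apply _ _ v)).symm.trans
      (Scheme.Hom.comp_apply _ _ v)

theorem mem_of_bc_mem {U : X.ProEt} {S : Sieve U}
    (hS : S.functorPushforward (ProEtS.bcP i) ∈ Scheme.ProEt.topology Z _) :
    S ∈ Scheme.ProEt.topology X U := by
  choose O hO hxO _ using fun x : U.left => ProEtFull.exists_affine_nhd (U := U.left) (x := x) (W := ⊤) trivial
  refine (Scheme.ProEt.topology X).transitive
    (ProEtWC.ofArrows_opens_mem (U := U) O (Set.eq_univ_of_forall fun x => Set.mem_iUnion.2 ⟨x, hxO x⟩)) _ ?_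
  rintro T _ ⟨W, a, b, ⟨x⟩, rfl⟩
  rw [Sieve.pullback_comp]
  refine GrothendieckTopology.pullback_stable _ a ?_
  haveI : IsAffine (ProEtWC.opObj U (O x)).left := hO x
  refine mem_of_bc_mem_affine i (GrothendieckTopology.superset_covering _ ?_
    ((Scheme.ProEt.topology Z).pullback_stable ((ProEtS.bcP i).map (ProEtWC.opIncl U (O x))) hS))
  rintro T c ⟨Y, s, h, hs, e⟩
  have hp := (IsPullback.of_hasPullback (ProEtWC.opIncl U (O x)) s).map (ProEtS.bcP i)
  refine ⟨_, pullback.fst (ProEtWC.opIncl U (O x)) s, hp.lift c h e, ?_, (hp.lift_fst _ _ _).symm⟩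
  show S (pullback.fst _ _ ≫ ProEtWC.opIncl U (O x))
  rw [pullback.condition]
  exact S.downward_closed hs _

theorem isDenseSubsite_bcP [hc : ProEtS.PCont i] :
    (ProEtS.bcP i).IsDenseSubsite (Scheme.ProEt.topology X) (Scheme.ProEt.topology Z) where
  isCoverDense' := isCoverDense_bcP i
  isLocallyFull' := isLocallyFull_bcP i
  isLocallyFaithful' := by
    haveI := faithful_bcP i
    infer_instance
  functorPushforward_mem_iff := ⟨mem_of_bc_mem i, fun h => by
    haveI : RepresentablyFlat (ProEtS.bcP i) := flat_of_preservesFiniteLimits _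
    exact ((Functor.isContinuous_iff_coverPreserving (J := Scheme.ProEt.topology X)
      (K := Scheme.ProEt.topology Z) (F := ProEtS.bcP i)).1 hc).cover_preserve h⟩

theorem isEquivalence_pushP [ProEtS.PCont i] : (ProEtS.pushP i).IsEquivalence := by
  haveI := isDenseSubsite_bcP i
  exact inferInstanceAs ((ProEtS.bcP i).sheafPushforwardContinuous AddCommGrpCat.{u + 1}
    (Scheme.ProEt.topology X) (Scheme.ProEt.topology Z)).IsEquivalence

end Groth.Agent.ProEtHomeo
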